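import Mathlib.FieldTheory.Finite.Basic
import Mathlib.RingTheory.Smooth.Basic
import Mathlib.RingTheory.Polynomial.Basic
import Mathlib.AlgebraicGeometry.Morphisms.Smooth
import Mathlib.RingTheory.Ideal.Quotient.Nilpotent

/-! Over a finite field every rational hyperplane is tangent to `Σ (X Y^q - Y X^q)`. -/

set_option autoImplicit false

noncomputable section

namespace Groth.Agent.FFHyp

universe u

variable {k : Type u} [Field k] [Fintype k] {ι : Type}

/-- The tangency point of the hyperplane `c`. -/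
def point (c : ι ⊕ ι → k) : ι ⊕ ι → k := Sum.elim (fun i => c (.inr i)) (fun i => -c (.inl i))

variable [Fintype ι]

/-- The defining form. -/
def hyp {A : Type u} [CommRing A] (x : ι ⊕ ι → A) : A :=
  ∑ i, (x (.inl i) * x (.inr i) ^ Fintype.card k - x (.inr i) * x (.inl i) ^ Fintype.card k)

/-- The hyperplane. -/
def lin {A : Type u} [CommRing A] [Algebra k A] (c : ι ⊕ ι → k) (x : ι ⊕ ι → A) : A :=
  ∑ v, algebraMap k A (c v) * x v

theorem lin_move {A : Type u} [CommRing A] [Algebra k A] (c : ι ⊕ ι → k) (t : A) (u : ι ⊕ ι → A) :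
    lin c (fun v => algebraMap k A (point c v) + t * u v) = t * lin c u := by
  simp only [lin, mul_add, Finset.sum_add_distrib, Fintype.sum_sum_type, Finset.mul_sum, ← map_mul, point,
    Sum.elim_inl, Sum.elim_inr, mul_neg, map_neg, Finset.sum_neg_distrib]
  simp only [mul_comm (c (Sum.inr _)) (c (Sum.inl _))]
  simp [mul_left_comm]

theorem hyp_move {A : Type u} [CommRing A] [Algebra k A] (c : ι ⊕ ι → k) (t : A) (u : ι ⊕ ι → A) :
    hyp (k := k) (fun v => algebraMap k A (point c v) + t * u v) =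
      (t * lin c u) ^ Fintype.card k - t * lin c u + t ^ (Fintype.card k + 1) * hyp (k := k) u := by
  let Φ := FiniteField.frobeniusAlgHom k A
  have hΦ : ∀ y, y ^ Fintype.card k = Φ y := fun _ => rfl
  have hs : ∀ v, Φ (algebraMap k A (point c v) + t * u v) = algebraMap k A (point c v) + Φ t * Φ (u v) :=
    fun v => by rw [map_add, AlgHom.commutes, map_mul]
  unfold hyp lin
  simp only [pow_succ, hΦ, map_sum, map_mul, AlgHom.commutes, Finset.mul_sum,
    Fintype.sum_sum_type, map_add, point, Sum.elim_inl, Sum.elim_inr, map_neg]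
  simp only [← Finset.sum_add_distrib]
  rw [Finset.mul_sum, Finset.mul_sum, ← Finset.sum_sub_distrib, ← Finset.sum_add_distrib]
  refine Finset.sum_congr rfl fun i _ => ?_
  ring

theorem exists_vectors [DecidableEq ι] [Nontrivial ι] (c : ι ⊕ ι → k) (hc : c ≠ 0) :
    ∃ e f : ι ⊕ ι → k, ∑ v, c v * e v = 0 ∧ ∑ v, c v * f v = 0 ∧
      ∑ i, (e (.inl i) * f (.inr i) - e (.inr i) * f (.inl i)) = 1 := by
  obtain ⟨w, hw⟩ := Function.ne_iff.1 hc
  simp only [Pi.zero_apply] at hw
  obtain ⟨j, hj⟩ := exists_ne (Sum.elim id id w)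
  let a : ι ⊕ ι → k := Pi.single w (c w)⁻¹
  refine ⟨Pi.single (.inl j) 1 - c (.inl j) • a, Pi.single (.inr j) 1 - c (.inr j) • a, ?_, ?_, ?_⟩
  · simp [a, mul_sub, Pi.single_apply]
    rw [mul_left_comm, mul_inv_cancel₀ hw, mul_one, sub_self]
  · simp [a, mul_sub, Pi.single_apply]
    rw [mul_left_comm, mul_inv_cancel₀ hw, mul_one, sub_self]
  · rcases w with i₀ | i₀ <;> simp only [Sum.elim_inl, Sum.elim_inr, id_eq] at hj <;>
      rw [Finset.sum_eq_single j] <;> simp +contextual [a, Pi.single_apply, hj, Ne.symm hj]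

open MvPolynomial in
theorem aeval_eqns {A : Type u} [CommRing A] [Algebra k A] (c : ι ⊕ ι → k) (x : ι ⊕ ι → A) :
    aeval x (∑ v, C (c v) * X v : MvPolynomial (ι ⊕ ι) k) = lin c x ∧
      aeval x (∑ i, (X (Sum.inl i) * X (Sum.inr i) ^ Fintype.card k -
        X (Sum.inr i) * X (Sum.inl i) ^ Fintype.card k) : MvPolynomial (ι ⊕ ι) k) = hyp (k := k) x := by
  constructor <;> simp [lin, hyp]

open MvPolynomial in
theorem exists_lift_arc (F L : MvPolynomial (ι ⊕ ι) k)
    (hF : F = ∑ i, (X (Sum.inl i) * X (Sum.inr i) ^ Fintype.card k - X (Sum.inr i) * X (Sum.inl i) ^ Fintype.card k))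
    (c : ι ⊕ ι → k) (hL : L = ∑ v, C (c v) * X v) (w : ι ⊕ ι) (hw : point c w ≠ 0)
    [Algebra.FormallySmooth k (Localization.Away (Ideal.Quotient.mk (Ideal.span {F, L}) (X w)))]
    {A : Type u} [CommRing A] [Algebra k A] (t : A) (ht : t ^ (Fintype.card k + 2) = 0) (V : ι ⊕ ι → A)
    (hlV : lin c V = 0) :
    ∃ d : ι ⊕ ι → A, t ^ (Fintype.card k + 1) * hyp (k := k) (fun z => V z + t * d z) = 0 := by
  let I := Ideal.span ({F, L} : Set (MvPolynomial (ι ⊕ ι) k))
  let R := Localization.Away (Ideal.Quotient.mk I (X w))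
  let q := Fintype.card k
  have hq : 2 ≤ q := Fintype.one_lt_card
  let ν : A →ₐ[k] A ⧸ Ideal.span {t ^ 2} := Ideal.Quotient.mkₐ k _
  let x₀ : ι ⊕ ι → A := fun z => algebraMap k A (point c z) + t * V z
  have hF0 : ν (hyp (k := k) x₀) = 0 := by
    show ν (hyp (k := k) fun z => _) = 0
    rw [hyp_move, hlV, mul_zero, zero_pow (by omega : Fintype.card k ≠ 0), sub_zero, zero_add]
    exact Ideal.Quotient.eq_zero_iff_mem.2 (Ideal.mul_mem_right _ _
      (Ideal.mem_span_singleton.2 (pow_dvd_pow t (by omega))))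
  have hL0 : lin c x₀ = 0 := by
    show lin c (fun z => _) = 0
    rw [lin_move, hlV, mul_zero]
  let g₀ : MvPolynomial (ι ⊕ ι) k →ₐ[k] A ⧸ Ideal.span {t ^ 2} := ν.comp (aeval x₀)
  have hg₀ : ∀ z ∈ I, g₀ z = 0 := by
    have : I ≤ RingHom.ker g₀ := Ideal.span_le.2 (by
      rintro z (rfl | rfl)
      · show ν (aeval x₀ _) = 0
        rw [hF, (aeval_eqns c x₀).2]; exact hF0
      · show ν (aeval x₀ _) = 0
        rw [hL, (aeval_eqns c x₀).1, hL0, map_zero])
    exact fun z hz => this hz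
  let g₁ : (MvPolynomial (ι ⊕ ι) k ⧸ I) →ₐ[k] A ⧸ Ideal.span {t ^ 2} := Ideal.Quotient.liftₐ I g₀ hg₀
  have hu : IsUnit (g₁ (Ideal.Quotient.mk I (X w))) := by
    show IsUnit (ν (aeval x₀ (X w)))
    rw [aeval_X]
    refine IsUnit.map ν (IsNilpotent.isUnit_add_left_of_commute ?_ ((IsUnit.mk0 _ hw).map _) (Commute.all _ _))
    refine ⟨q + 2, ?_⟩
    rw [mul_pow, ht, zero_mul]
  let g : R →ₐ[k] A ⧸ Ideal.span {t ^ 2} := IsLocalization.liftAlgHom (M := Submonoid.powers (Ideal.Quotient.mk I (X w)))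
    (f := g₁) (by rintro ⟨_, m, rfl⟩; rw [map_pow]; exact hu.pow m)
  have hnil : IsNilpotent (Ideal.span {t ^ 2}) := ⟨q + 2, by
    rw [Ideal.span_singleton_pow, ← pow_mul, mul_comm, pow_mul,
      ht, zero_pow two_ne_zero, Ideal.span_singleton_eq_bot.2 rfl]
    rfl⟩
  obtain ⟨ψ, hψ⟩ := Algebra.FormallySmooth.exists_lift _ hnil g
  let ψ₀ : MvPolynomial (ι ⊕ ι) k →ₐ[k] A :=
    ψ.comp ((IsScalarTower.toAlgHom k _ R).comp (Ideal.Quotient.mkₐ k I))
  have hψ₀ : ∀ z, ν (ψ₀ z) = g₀ z := fun z => by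
    have := AlgHom.congr_fun hψ (algebraMap _ R (Ideal.Quotient.mk I z))
    refine this.trans ?_
    exact IsLocalization.lift_eq _ _
  have hd : ∀ z, ∃ d, ψ₀ (X z) - x₀ z = t ^ 2 * d := fun z => by
    have h := hψ₀ (X z)
    rw [show g₀ (X z) = ν (x₀ z) by simp [g₀]] at h
    obtain ⟨d, hd⟩ := Ideal.mem_span_singleton'.1 (Ideal.Quotient.eq.1 h)
    exact ⟨d, by rw [← hd, mul_comm]⟩
  choose d hd using hd
  let u : ι ⊕ ι → A := fun z => V z + t * d z
  have hx : (fun z => ψ₀ (X z)) = fun z => algebraMap k A (point c z) + t * u z := funext fun z => by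
    rw [eq_add_of_sub_eq (hd z)]; simp only [x₀, u]; ring
  have hae : ψ₀ = aeval fun z => ψ₀ (X z) := MvPolynomial.aeval_unique ψ₀
  have hz : ∀ z ∈ I, ψ₀ z = 0 := fun z hz => by
    show ψ (algebraMap _ R (Ideal.Quotient.mk I z)) = 0
    rw [Ideal.Quotient.eq_zero_iff_mem.2 hz, map_zero, map_zero]
  have h1 : t * lin c u = 0 := by
    have := hz L (Ideal.subset_span (by simp))
    rwa [hae, hL, (aeval_eqns c _).1, hx, lin_move] at this
  have h2 : t ^ (q + 1) * hyp (k := k) u = 0 := by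
    have := hz F (Ideal.subset_span (by simp))
    rwa [hae, hF, (aeval_eqns c _).2, hx, hyp_move, h1, zero_pow (by omega : Fintype.card k ≠ 0), sub_zero,
      zero_add] at this
  exact ⟨d, h2⟩

open MvPolynomial in
theorem not_formallySmooth [DecidableEq ι] [Nontrivial ι] (F L : MvPolynomial (ι ⊕ ι) k)
    (hF : F = ∑ i, (X (Sum.inl i) * X (Sum.inr i) ^ Fintype.card k - X (Sum.inr i) * X (Sum.inl i) ^ Fintype.card k))
    (c : ι ⊕ ι → k) (hc : c ≠ 0) (hL : L = ∑ v, C (c v) * X v) (w : ι ⊕ ι) (hw : point c w ≠ 0) :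
    ¬ Algebra.FormallySmooth k (Localization.Away (Ideal.Quotient.mk (Ideal.span {F, L}) (X w))) := by
  intro hfs
  let q := Fintype.card k
  have hq : 2 ≤ q := Fintype.one_lt_card
  obtain ⟨e, f, he, hf, hef⟩ := exists_vectors c hc
  let B := Polynomial k
  let v : ι ⊕ ι → B := fun z => algebraMap k B (e z) + Polynomial.X * algebraMap k B (f z)
  let tn : Ideal (Polynomial B) := Ideal.span {(Polynomial.X : Polynomial B) ^ (q + 2)}
  let t : Polynomial B ⧸ tn := Ideal.Quotient.mk tn Polynomial.X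
  let V : ι ⊕ ι → Polynomial B ⧸ tn := fun z => Ideal.Quotient.mk tn (Polynomial.C (v z))
  have hlv : lin c v = 0 := by
    simp only [lin, v, mul_add, Finset.sum_add_distrib, ← map_mul, mul_left_comm (algebraMap k B _) Polynomial.X,
      ← Finset.mul_sum, ← map_sum, he, hf, map_zero, mul_zero, add_zero]
  let ζ : B →ₐ[k] Polynomial B ⧸ tn := ((Ideal.Quotient.mkₐ k tn).comp (IsScalarTower.toAlgHom k B (Polynomial B)))
  have hlV : lin c V = 0 := by
    have := congrArg ζ hlv
    rw [map_zero] at this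
    refine Eq.trans ?_ this
    simp only [lin, map_sum, map_mul, AlgHom.commutes]
    rfl
  haveI := hfs
  obtain ⟨d, h2⟩ := exists_lift_arc F L hF c hL w hw t
    (Ideal.Quotient.eq_zero_iff_mem.2 (Ideal.mem_span_singleton_self _)) V hlV
  let u : ι ⊕ ι → Polynomial B ⧸ tn := fun z => V z + t * d z
  -- reduce modulo `t`
  choose U hU using fun z => Ideal.Quotient.mk_surjective (I := tn) (u z)
  have hUv : ∀ z, (U z).eval 0 = v z := fun z => by
    obtain ⟨D, hD⟩ := Ideal.Quotient.mk_surjective (I := tn) (d z)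
    have e : Ideal.Quotient.mk tn (U z) = Ideal.Quotient.mk tn (Polynomial.C (v z) + Polynomial.X * D) := by
      rw [hU, map_add, map_mul, hD]
    obtain ⟨E, hE⟩ := Ideal.mem_span_singleton.1 (Ideal.Quotient.eq.1 e)
    have := congrArg (Polynomial.eval 0) hE
    simpa [sub_eq_zero] using this
  have h3 : Ideal.Quotient.mk tn ((Polynomial.X : Polynomial B) ^ (q + 1) * hyp (k := k) U) = 0 := by
    rw [← h2]
    simp only [hyp, map_mul, map_pow, map_sum, map_sub, hU]
    rfl
  obtain ⟨E, hE⟩ := Ideal.mem_span_singleton.1 (Ideal.Quotient.eq_zero_iff_mem.1 h3)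
  rw [show q + 2 = (q + 1) + 1 from rfl, pow_succ Polynomial.X (q + 1), mul_assoc] at hE
  have h4 := congrArg (Polynomial.eval 0) (mul_left_cancel₀ (pow_ne_zero _ Polynomial.X_ne_zero) hE)
  simp only [hyp, Polynomial.eval_finset_sum, Polynomial.eval_sub, Polynomial.eval_mul, Polynomial.eval_pow, hUv,
    Polynomial.eval_X, zero_mul] at h4
  let Φ := FiniteField.frobeniusAlgHom k B
  have hΦ : ∀ y : B, y ^ Fintype.card k = Φ y := fun _ => rfl
  have h5 : ∑ i, algebraMap k B (e (.inl i) * f (.inr i) - e (.inr i) * f (.inl i)) *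
      ((Polynomial.X : B) ^ Fintype.card k - Polynomial.X) = 0 := by
    refine Eq.trans (Finset.sum_congr rfl fun i _ => ?_) h4
    simp only [v, hΦ, map_add, map_mul, AlgHom.commutes, map_sub]
    ring
  rw [← Finset.sum_mul, ← map_sum, hef, map_one, one_mul] at h5
  have h6 := congrArg Polynomial.natDegree h5
  rw [FiniteField.X_pow_card_sub_X_natDegree_eq k hq, Polynomial.natDegree_zero] at h6
  omega

open AlgebraicGeometry in
theorem not_smooth {n : ℕ} (hn : 1 ≤ n) (F L : MvPolynomial (Fin (n + 1) ⊕ Fin (n + 1)) k)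
    (hF : F = ∑ i, (MvPolynomial.X (Sum.inl i) * MvPolynomial.X (Sum.inr i) ^ Fintype.card k -
      MvPolynomial.X (Sum.inr i) * MvPolynomial.X (Sum.inl i) ^ Fintype.card k))
    (c : Fin (n + 1) ⊕ Fin (n + 1) → k) (hc : c ≠ 0) (hL : L = ∑ v, MvPolynomial.C (c v) * MvPolynomial.X v) :
    ¬ ∀ w, Smooth (Spec.map (CommRingCat.ofHom (algebraMap k
      (Localization.Away (Ideal.Quotient.mk (Ideal.span {F, L}) (MvPolynomial.X w)))))) := by
  intro h
  haveI : Nontrivial (Fin (n + 1)) := Fin.nontrivial_iff_two_le.2 (by omega)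
  obtain ⟨w, hw⟩ : ∃ w, point c w ≠ 0 := by
    by_contra hh
    push Not at hh
    refine hc (funext ?_)
    rintro (i | i)
    · simpa [point] using hh (.inr i)
    · simpa [point] using hh (.inl i)
  have := RingHom.smooth_algebraMap.1 ((HasRingHomProperty.Spec_iff (P := @Smooth)).1 (h w))
  exact not_formallySmooth F L hF c hc hL w hw inferInstance

end Groth.Agent.FFHyp
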